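import Groth.Agent.Jac.K317.ThetaBC
import Groth.Agent.Jac.K914.Semi
import Groth.Agent.BunMod.K596.Iface
import Groth.Agent.Vancyc.H878.RelOmega
import Groth.Agent.AlgSp.K598.Red
import Groth.Agent.JacVar.K532.Base

/-!
# The theta divisor of a theta characteristic is symmetric

* `NT_sq`: `N ⊗ N ≅ Ω` implies that the constant family `N_T` is a square root of the canonical class on every fibre.
* `hK_inv`: `h⁰(c N) = h⁰(c⁻¹ N)` for a class `c` of degree zero.
* `inv_mem_jumpLocus`, `preimage_jumpLocus`, `preimage_thetaLocus`, `comap_ideal`.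
* `sym` (JB4b of `K596.PlanJ`): `[-1]^* Θ ≅ Θ`.
-/

set_option autoImplicit false
universe u
open CategoryTheory CategoryTheory.Limits AlgebraicGeometry Opposite TopologicalSpace MonoidalCategory
  CartesianMonoidalCategory MonObj

namespace K527.SymTheta

open Groth.Agent Groth.Agent.Grpsch Groth.Agent.Grpsch.PicGrp Groth.Agent.Fga.RigGrp Groth.Agent.Fga.JacSum
open Groth.Agent.Fga.JacAlg Groth.Agent.Picfga.ChiDef Groth.Agent.Fga.JacSurj Groth.Agent.Ega3A.PicLocBase
open K914.Cls K914.Points K914.HField K914.PtDrop K914.Semi K317.CoarseBC K732.BC K317.JumpPts K317.ThetaBC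
open Groth.Agent.Fdesc.LocGen Groth.Agent.Vancyc.H878.RelOmega

section field

variable {k : Type u} [Field k] {X : Scheme.{u}} (f : X ⟶ Spec (CommRingCat.of k))
  [IsProper f] [Smooth f] [GeometricallyConnected f] [SmoothOfRelativeDimension 1 f]
  {K : Type u} [Field K] (t : Spec (CommRingCat.of K) ⟶ Spec (CommRingCat.of k))

/-- A square root of `Ω` gives a square root of the canonical class on every fibre. -/
theorem NT_sq (N : X.Modules) (hN : PicF.IsInvertible N)
    (hNth : Nonempty (CohB1.tensorMod N N ≅ Omega.sheaf f)) :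
    NT f (mk N hN) (Over.mk t) * NT f (mk N hN) (Over.mk t) = omK f t := by
  obtain ⟨e⟩ := hNth
  have hΩ : PicF.IsInvertible (Omega.sheaf f) := fun x => by
    obtain ⟨U, hxU, ⟨e'⟩⟩ := isInvertible_tensorMod hN hN x
    exact ⟨U, hxU, ⟨(Scheme.Modules.restrictFunctor U.ι).mapIso e.symm ≪≫ e'⟩⟩
  rw [NT, ← map_mul, mk_mul_mk]
  have h1 : mk (CohB1.tensorMod N N) (isInvertible_tensorMod hN hN) = mk (Omega.sheaf f) hΩ :=
    (mk_eq_iff _ _).2 ⟨e⟩
  rw [h1, pull_mk]
  refine (mk_eq_iff _ _).2 ⟨?_⟩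
  exact omegaBC (IsPullback.of_hasPullback f t)

theorem dK_NT (N : X.Modules) (hN : PicF.IsInvertible N)
    (hNth : Nonempty (CohB1.tensorMod N N ≅ Omega.sheaf f)) :
    dK f t (NT f (mk N hN) (Over.mk t)) = - chiK f t 1 := by
  have h1 := congrArg (dK f t) (NT_sq f t N hN hNth)
  rw [dK_mul, dK_omK] at h1
  omega

/-- The symmetry of Riemann-Roch. -/
theorem hK_inv (N : X.Modules) (hN : PicF.IsInvertible N)
    (hNth : Nonempty (CohB1.tensorMod N N ≅ Omega.sheaf f)) (c : Pic (PicF.XT f (Over.mk t)))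
    (hc : dK f t c = 0) :
    hK f t 0 (c⁻¹ * NT f (mk N hN) (Over.mk t)) = hK f t 0 (c * NT f (mk N hN) (Over.mk t)) := by
  have h1 := rr f t (c * NT f (mk N hN) (Over.mk t))
  rw [dK_mul, hc, dK_NT f t N hN hNth] at h1
  have h2 := serre f t (c * NT f (mk N hN) (Over.mk t))
  have h3 : omK f t * (c * NT f (mk N hN) (Over.mk t))⁻¹ = c⁻¹ * NT f (mk N hN) (Over.mk t) := by
    rw [← NT_sq f t N hN hNth, mul_inv, mul_comm c⁻¹, ← _root_.mul_assoc, mul_inv_cancel_right, mul_comm]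
  rw [h3] at h2
  omega

end field

section locus

variable {k : Type u} [Field k] {X : Scheme.{u}} {f : X ⟶ Spec (CommRingCat.of k)}
  [IsProper f] [Smooth f] [GeometricallyConnected f] [SmoothOfRelativeDimension 1 f]
  {J : Over (Spec (CommRingCat.of k))} [GrpObj J] {ψ : (ModFun.PicDeg f 0).Hom ⊤ J}
  (hJ : Jac.IsJacobian f ⊤ J ψ)

include hJ

theorem psiCl_one {T : Over (Spec (CommRingCat.of k))} (h1 : IsDeg f 0 (1 : Pic (PicF.XT f T))) :
    psiCl ψ (1 : Pic (PicF.XT f T)) h1 = 1 := by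
  have h2 : IsDeg f 0 ((1 : Pic (PicF.XT f T)) * 1) := by rwa [_root_.mul_one]
  have h := psiCl_mul hJ (1 : Pic (PicF.XT f T)) 1 h1 h1 h2
  rw [psiCl_congr ψ (_root_.mul_one (1 : Pic (PicF.XT f T))) h2] at h
  exact (mul_eq_left.1 h.symm)

theorem psiCl_inv {T : Over (Spec (CommRingCat.of k))} (c : Pic (PicF.XT f T)) (hc : IsDeg f 0 c)
    (hc' : IsDeg f 0 c⁻¹) : psiCl ψ c⁻¹ hc' = (psiCl ψ c hc)⁻¹ := by
  have h1 : IsDeg f 0 (1 : Pic (PicF.XT f T)) := K914.Fine.isDeg_one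
  have h2 : IsDeg f 0 (c⁻¹ * c) := by rwa [inv_mul_cancel]
  have h := psiCl_mul hJ c⁻¹ c hc' hc h2
  rw [psiCl_congr ψ (inv_mul_cancel c) h2, psiCl_one hJ] at h
  exact eq_inv_of_mul_eq_one_left h.symm

variable (N : X.Modules) (hN : PicF.IsInvertible N) (hNth : Nonempty (CohB1.tensorMod N N ≅ Omega.sheaf f))

include hN hNth

theorem inv_mem_jumpLocus {y : J.left} (hy : y ∈ Jac.jumpLocus f 0 ψ N) :
    (GrpObj.inv : J ⟶ J).left y ∈ Jac.jumpLocus f 0 ψ N := by
  rw [mem_jumpLocus_iff' _ N hN] at hy ⊢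
  obtain ⟨Ω, _, _, t, c, hc, h, p, rfl⟩ := hy
  have hc' : IsDeg f 0 c⁻¹ := (hc.inv).congr (by simp) rfl
  refine ⟨Ω, inferInstance, inferInstance, t, c⁻¹, hc', ?_, p, ?_⟩
  · rw [hK_inv f t N hN hNth c]
    · exact h
    · have := (isDeg_iff_chiK t c).1 hc
      rw [dK, this]
      ring
  · rw [psiCl_inv hJ c hc hc', Hom.inv_def]
    rfl

theorem preimage_jumpLocus :
    (GrpObj.inv : J ⟶ J).left ⁻¹' (Jac.jumpLocus f 0 ψ N) = Jac.jumpLocus f 0 ψ N := by
  have hii : ∀ y : J.left, (GrpObj.inv : J ⟶ J).left ((GrpObj.inv : J ⟶ J).left y) = y := by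
    intro y
    have h1 : (GrpObj.inv : J ⟶ J) ≫ GrpObj.inv = 𝟙 J := GrpObj.inv_comp_inv J
    have h2 := congrArg (fun z : J ⟶ J => z.left y) h1
    exact h2
  ext y
  constructor
  · intro hy
    have := inv_mem_jumpLocus hJ N hN hNth (show (GrpObj.inv : J ⟶ J).left y ∈ _ from hy)
    rwa [hii] at this
  · intro hy
    exact inv_mem_jumpLocus hJ N hN hNth hy

omit [IsProper f] [Smooth f] [GeometricallyConnected f] [SmoothOfRelativeDimension 1 f] hJ hN hNth in
theorem isIso_inv_left (J : Over (Spec (CommRingCat.of k))) [GrpObj J] : IsIso (GrpObj.inv : J ⟶ J).left := by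
  have h1 : (GrpObj.inv : J ⟶ J) ≫ GrpObj.inv = 𝟙 J := GrpObj.inv_comp_inv J
  have : IsIso (GrpObj.inv : J ⟶ J) := ⟨GrpObj.inv, h1, h1⟩
  exact inferInstanceAs (IsIso ((Over.forget _).map (GrpObj.inv : J ⟶ J)))

theorem preimage_thetaLocus :
    (GrpObj.inv : J ⟶ J).left ⁻¹' (Jac.thetaLocus f 0 ψ N) = Jac.thetaLocus f 0 ψ N := by
  have := isIso_inv_left J
  rw [Jac.thetaLocus]
  have h := ((GrpObj.inv : J ⟶ J).left.homeomorph).preimage_closure (Jac.jumpLocus f 0 ψ N)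
  have h2 : ⇑((GrpObj.inv : J ⟶ J).left.homeomorph) = ⇑(GrpObj.inv : J ⟶ J).left := rfl
  rw [h2] at h
  rw [h, preimage_jumpLocus hJ N hN hNth]

theorem comap_ideal :
    (Scheme.IdealSheafData.vanishingIdeal ⟨Jac.thetaLocus f 0 ψ N, isClosed_closure⟩).comap
      (GrpObj.inv : J ⟶ J).left =
    Scheme.IdealSheafData.vanishingIdeal ⟨Jac.thetaLocus f 0 ψ N, isClosed_closure⟩ := by
  have := isIso_inv_left J
  rw [K598.Red.comap_vanishingIdeal]
  congr 1
  apply TopologicalSpace.Closeds.ext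
  exact preimage_thetaLocus hJ N hN hNth

/-- The pull back of the theta line bundle under the inversion. -/
theorem nonempty_pullback_inv_iso {Θ : J.left.Modules} (hΘ : Jac.IsThetaLB f 0 ψ N Θ) :
    Nonempty ((Scheme.Modules.pullback (GrpObj.inv : J ⟶ J).left).obj Θ ≅ Θ) := by
  have := isIso_inv_left J
  obtain ⟨h1, h2⟩ := hΘ
  have h3 : PicF.IsInvertible ((Scheme.Modules.pullback (GrpObj.inv : J ⟶ J).left).obj Θ) :=
    Fdesc.LocGen.isInvertible_pullback _ h1
  have hI := Dix.IdealModCartier.isEffCartierIdeal_of_isInverseOf h2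
  have hI' := Divis.EffCartier.isEff_comap_flat hI (GrpObj.inv : J ⟶ J).left
  have h4 := Dix.IdealModCartier.pullback_idealMod (GrpObj.inv : J ⟶ J).left hI hI'
  have h5 : mk Θ h1 * mk _ (Dix.IdealModCartier.isInvertible_idealMod hI) = 1 := by
    rw [mk_mul_mk, mk_eq_one_iff]
    exact h2
  have h6 := congrArg (pull (GrpObj.inv : J ⟶ J).left) h5
  rw [map_mul, map_one, pull_mk, pull_mk] at h6
  have h7 : mk _ (Fdesc.LocGen.isInvertible_pullback (GrpObj.inv : J ⟶ J).left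
      (Dix.IdealModCartier.isInvertible_idealMod hI)) = mk _ (Dix.IdealModCartier.isInvertible_idealMod hI') :=
    (mk_eq_iff _ _).2 h4
  have h8 : mk _ (Dix.IdealModCartier.isInvertible_idealMod hI') =
      mk _ (Dix.IdealModCartier.isInvertible_idealMod hI) := by
    refine (mk_eq_iff _ _).2 ⟨eqToIso ?_⟩
    rw [comap_ideal hJ N hN hNth]
  have h9 : mk _ h3 = mk Θ h1 := by
    have h10 : mk _ h3 * mk _ (Dix.IdealModCartier.isInvertible_idealMod hI) = 1 := by
      rw [← h8, ← h7]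
      exact h6
    exact mul_right_cancel (h10.trans h5.symm)
  exact (mk_eq_iff _ _).1 h9

end locus

end K527.SymTheta

namespace K527.SymTheta

open Groth.Agent.BunMod.K596

/-- **JB4b of `K596.PlanJ`.**  For a theta characteristic `N` the theta line bundle is symmetric. -/
theorem sym (k : Type u) [Field k] [IsAlgClosed k]
    (X : Scheme.{u}) [X.Over (Spec (CommRingCat.of k))]
    [IsProper (X ↘ Spec (CommRingCat.of k))] [Smooth (X ↘ Spec (CommRingCat.of k))]
    [GeometricallyConnected (X ↘ Spec (CommRingCat.of k))] (hdim : topologicalKrullDim ↥X = 1)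
    (g : ℕ) (_ : Curv2.genus k X = g) (_ : 1 ≤ g)
    (N : X.Modules) (hN : PicF.IsInvertible N) (_ : Curv2.deg k X N 1 = (g : ℤ) - 1)
    (hNth : Nonempty (CohB1.tensorMod N N ≅ Omega.sheaf (X ↘ Spec (CommRingCat.of k))))
    (J : Over (Spec (CommRingCat.of k))) [GrpObj J] [IsCommMonObj J]
    (ψ : (ModFun.PicDeg (X ↘ Spec (CommRingCat.of k)) 0).Hom ⊤ J)
    (hJ : Jac.IsJacobian (X ↘ Spec (CommRingCat.of k)) ⊤ J ψ)
    (ΘJ : J.left.Modules) (hΘJ : Jac.IsThetaLB (X ↘ Spec (CommRingCat.of k)) 0 ψ N ΘJ) : Sym J ΘJ := by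
  have : SmoothOfRelativeDimension 1 (X ↘ Spec (CommRingCat.of k)) := K532.Base.smoothOfRelDim _ hdim
  exact nonempty_pullback_inv_iso hJ N hN hNth hΘJ

end K527.SymTheta
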